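import Cfsg.Agent.CosetCert.ONOrder.CloseDef

/-! Generated: kernel checks. -/

set_option Elab.async false

namespace Cfsg.Agent.CosetCert.ONOrder

theorem powAt64000 : allFrom (checkPower Cfsg.Agent.CosetCert.ONIndex122760.data closeCode (get48 closeStore) 31) 64000 4000 = true := by decide +kernel

theorem powAt68000 : allFrom (checkPower Cfsg.Agent.CosetCert.ONIndex122760.data closeCode (get48 closeStore) 31) 68000 4000 = true := by decide +kernel

theorem powAt72000 : allFrom (checkPower Cfsg.Agent.CosetCert.ONIndex122760.data closeCode (get48 closeStore) 31) 72000 4000 = true := by decide +kernel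

theorem powAt76000 : allFrom (checkPower Cfsg.Agent.CosetCert.ONIndex122760.data closeCode (get48 closeStore) 31) 76000 4000 = true := by decide +kernel

theorem powAt80000 : allFrom (checkPower Cfsg.Agent.CosetCert.ONIndex122760.data closeCode (get48 closeStore) 31) 80000 4000 = true := by decide +kernel

theorem powAt84000 : allFrom (checkPower Cfsg.Agent.CosetCert.ONIndex122760.data closeCode (get48 closeStore) 31) 84000 4000 = true := by decide +kernel

theorem powAt88000 : allFrom (checkPower Cfsg.Agent.CosetCert.ONIndex122760.data closeCode (get48 closeStore) 31) 88000 4000 = true := by decide +kernel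

theorem powAt92000 : allFrom (checkPower Cfsg.Agent.CosetCert.ONIndex122760.data closeCode (get48 closeStore) 31) 92000 4000 = true := by decide +kernel

end Cfsg.Agent.CosetCert.ONOrder
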