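import Cfsg.Agent.CosetCert.ONOrder.CloseDef

/-! Generated: kernel checks. -/

set_option Elab.async false

namespace Cfsg.Agent.CosetCert.ONOrder

theorem powAt96000 : allFrom (checkPower Cfsg.Agent.CosetCert.ONIndex122760.data closeCode (get48 closeStore) 31) 96000 4000 = true := by decide +kernel

theorem powAt100000 : allFrom (checkPower Cfsg.Agent.CosetCert.ONIndex122760.data closeCode (get48 closeStore) 31) 100000 4000 = true := by decide +kernel

theorem powAt104000 : allFrom (checkPower Cfsg.Agent.CosetCert.ONIndex122760.data closeCode (get48 closeStore) 31) 104000 4000 = true := by decide +kernel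

theorem powAt108000 : allFrom (checkPower Cfsg.Agent.CosetCert.ONIndex122760.data closeCode (get48 closeStore) 31) 108000 4000 = true := by decide +kernel

theorem powAt112000 : allFrom (checkPower Cfsg.Agent.CosetCert.ONIndex122760.data closeCode (get48 closeStore) 31) 112000 4000 = true := by decide +kernel

theorem powAt116000 : allFrom (checkPower Cfsg.Agent.CosetCert.ONIndex122760.data closeCode (get48 closeStore) 31) 116000 4000 = true := by decide +kernel

theorem powAt120000 : allFrom (checkPower Cfsg.Agent.CosetCert.ONIndex122760.data closeCode (get48 closeStore) 31) 120000 2760 = true := by decide +kernel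

end Cfsg.Agent.CosetCert.ONOrder
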