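import Cfsg.Agent.CosetCert.ONOrder.CloseDef

/-! Generated: kernel checks. -/

set_option Elab.async false

namespace Cfsg.Agent.CosetCert.ONOrder

theorem powAt32000 : allFrom (checkPower Cfsg.Agent.CosetCert.ONIndex122760.data closeCode (get48 closeStore) 31) 32000 4000 = true := by decide +kernel

theorem powAt36000 : allFrom (checkPower Cfsg.Agent.CosetCert.ONIndex122760.data closeCode (get48 closeStore) 31) 36000 4000 = true := by decide +kernel

theorem powAt40000 : allFrom (checkPower Cfsg.Agent.CosetCert.ONIndex122760.data closeCode (get48 closeStore) 31) 40000 4000 = true := by decide +kernel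

theorem powAt44000 : allFrom (checkPower Cfsg.Agent.CosetCert.ONIndex122760.data closeCode (get48 closeStore) 31) 44000 4000 = true := by decide +kernel

theorem powAt48000 : allFrom (checkPower Cfsg.Agent.CosetCert.ONIndex122760.data closeCode (get48 closeStore) 31) 48000 4000 = true := by decide +kernel

theorem powAt52000 : allFrom (checkPower Cfsg.Agent.CosetCert.ONIndex122760.data closeCode (get48 closeStore) 31) 52000 4000 = true := by decide +kernel

theorem powAt56000 : allFrom (checkPower Cfsg.Agent.CosetCert.ONIndex122760.data closeCode (get48 closeStore) 31) 56000 4000 = true := by decide +kernel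

theorem powAt60000 : allFrom (checkPower Cfsg.Agent.CosetCert.ONIndex122760.data closeCode (get48 closeStore) 31) 60000 4000 = true := by decide +kernel

end Cfsg.Agent.CosetCert.ONOrder
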