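import Cfsg.Agent.CosetCert.ONOrder.CloseCheck0
import Cfsg.Agent.CosetCert.ONOrder.CloseCheck8
import Cfsg.Agent.CosetCert.ONOrder.CloseCheck16
import Cfsg.Agent.CosetCert.ONOrder.CloseCheck24

/-! Generated: the closing word has the stated order on the table. -/

namespace Cfsg.Agent.CosetCert.ONOrder

theorem pow_ok : ∀ c, c < 122760 → (checkPower Cfsg.Agent.CosetCert.ONIndex122760.data closeCode (get48 closeStore) 31) c = true := by
  have h0 : ∀ c, c < 0 → (checkPower Cfsg.Agent.CosetCert.ONIndex122760.data closeCode (get48 closeStore) 31) c = true := forall_lt_zero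
  have h1 := forall_lt_step (b := 4000) h0 powAt0 rfl
  have h2 := forall_lt_step (b := 8000) h1 powAt4000 rfl
  have h3 := forall_lt_step (b := 12000) h2 powAt8000 rfl
  have h4 := forall_lt_step (b := 16000) h3 powAt12000 rfl
  have h5 := forall_lt_step (b := 20000) h4 powAt16000 rfl
  have h6 := forall_lt_step (b := 24000) h5 powAt20000 rfl
  have h7 := forall_lt_step (b := 28000) h6 powAt24000 rfl
  have h8 := forall_lt_step (b := 32000) h7 powAt28000 rfl
  have h9 := forall_lt_step (b := 36000) h8 powAt32000 rfl
  have h10 := forall_lt_step (b := 40000) h9 powAt36000 rfl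
  have h11 := forall_lt_step (b := 44000) h10 powAt40000 rfl
  have h12 := forall_lt_step (b := 48000) h11 powAt44000 rfl
  have h13 := forall_lt_step (b := 52000) h12 powAt48000 rfl
  have h14 := forall_lt_step (b := 56000) h13 powAt52000 rfl
  have h15 := forall_lt_step (b := 60000) h14 powAt56000 rfl
  have h16 := forall_lt_step (b := 64000) h15 powAt60000 rfl
  have h17 := forall_lt_step (b := 68000) h16 powAt64000 rfl
  have h18 := forall_lt_step (b := 72000) h17 powAt68000 rfl
  have h19 := forall_lt_step (b := 76000) h18 powAt72000 rfl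
  have h20 := forall_lt_step (b := 80000) h19 powAt76000 rfl
  have h21 := forall_lt_step (b := 84000) h20 powAt80000 rfl
  have h22 := forall_lt_step (b := 88000) h21 powAt84000 rfl
  have h23 := forall_lt_step (b := 92000) h22 powAt88000 rfl
  have h24 := forall_lt_step (b := 96000) h23 powAt92000 rfl
  have h25 := forall_lt_step (b := 100000) h24 powAt96000 rfl
  have h26 := forall_lt_step (b := 104000) h25 powAt100000 rfl
  have h27 := forall_lt_step (b := 108000) h26 powAt104000 rfl
  have h28 := forall_lt_step (b := 112000) h27 powAt108000 rfl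
  have h29 := forall_lt_step (b := 116000) h28 powAt112000 rfl
  have h30 := forall_lt_step (b := 120000) h29 powAt116000 rfl
  have h31 := forall_lt_step (b := 122760) h30 powAt120000 rfl
  exact h31

theorem close_pow : ∀ c, c < 122760 →
    Cfsg.Agent.CosetCert.ONIndex122760.data.fwd ((List.replicate 31 closeCode).flatten) c = c :=
  fwd_power Cfsg.Agent.CosetCert.ONIndex122760.data closeCode (get48 closeStore) 31 pow_ok

end Cfsg.Agent.CosetCert.ONOrder
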