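import Cfsg.Agent.CosetCert.ONIndex122760.Defs
import Cfsg.Agent.CosetCert.PowerCheck
import Cfsg.Agent.CosetCert.ONOrder.CloseData

/-! Generated: the closing word. -/

namespace Cfsg.Agent.CosetCert.ONOrder

/-- The closing word in table letters. -/
def closeCode : List Nat := [6, 5, 7, 2, 4, 2, 4, 1, 3, 1, 6, 4, 2]

end Cfsg.Agent.CosetCert.ONOrder
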