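import Cfsg.Agent.CosetCert.ONOrder.Level0Def

/-! Generated: orbit checks. -/

set_option Elab.async false
set_option maxRecDepth 100000

namespace Cfsg.Agent.CosetCert.ONOrder

theorem pts0At40000 : allFrom (Cfsg.Agent.CosetCert.ONIndex122760.data.checkPoint level0) 40000 2000 = true := by decide +kernel

theorem pts0At42000 : allFrom (Cfsg.Agent.CosetCert.ONIndex122760.data.checkPoint level0) 42000 2000 = true := by decide +kernel

theorem pts0At44000 : allFrom (Cfsg.Agent.CosetCert.ONIndex122760.data.checkPoint level0) 44000 2000 = true := by decide +kernel

theorem pts0At46000 : allFrom (Cfsg.Agent.CosetCert.ONIndex122760.data.checkPoint level0) 46000 2000 = true := by decide +kernel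

theorem pts0At48000 : allFrom (Cfsg.Agent.CosetCert.ONIndex122760.data.checkPoint level0) 48000 2000 = true := by decide +kernel

theorem pts0At50000 : allFrom (Cfsg.Agent.CosetCert.ONIndex122760.data.checkPoint level0) 50000 2000 = true := by decide +kernel

theorem pts0At52000 : allFrom (Cfsg.Agent.CosetCert.ONIndex122760.data.checkPoint level0) 52000 2000 = true := by decide +kernel

theorem pts0At54000 : allFrom (Cfsg.Agent.CosetCert.ONIndex122760.data.checkPoint level0) 54000 2000 = true := by decide +kernel

theorem pts0At56000 : allFrom (Cfsg.Agent.CosetCert.ONIndex122760.data.checkPoint level0) 56000 2000 = true := by decide +kernel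

theorem pts0At58000 : allFrom (Cfsg.Agent.CosetCert.ONIndex122760.data.checkPoint level0) 58000 2000 = true := by decide +kernel

theorem pts0At60000 : allFrom (Cfsg.Agent.CosetCert.ONIndex122760.data.checkPoint level0) 60000 2000 = true := by decide +kernel

theorem pts0At62000 : allFrom (Cfsg.Agent.CosetCert.ONIndex122760.data.checkPoint level0) 62000 2000 = true := by decide +kernel

theorem pts0At64000 : allFrom (Cfsg.Agent.CosetCert.ONIndex122760.data.checkPoint level0) 64000 2000 = true := by decide +kernel

theorem pts0At66000 : allFrom (Cfsg.Agent.CosetCert.ONIndex122760.data.checkPoint level0) 66000 2000 = true := by decide +kernel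

theorem pts0At68000 : allFrom (Cfsg.Agent.CosetCert.ONIndex122760.data.checkPoint level0) 68000 2000 = true := by decide +kernel

theorem pts0At70000 : allFrom (Cfsg.Agent.CosetCert.ONIndex122760.data.checkPoint level0) 70000 2000 = true := by decide +kernel

theorem pts0At72000 : allFrom (Cfsg.Agent.CosetCert.ONIndex122760.data.checkPoint level0) 72000 2000 = true := by decide +kernel

theorem pts0At74000 : allFrom (Cfsg.Agent.CosetCert.ONIndex122760.data.checkPoint level0) 74000 2000 = true := by decide +kernel

theorem pts0At76000 : allFrom (Cfsg.Agent.CosetCert.ONIndex122760.data.checkPoint level0) 76000 2000 = true := by decide +kernel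

theorem pts0At78000 : allFrom (Cfsg.Agent.CosetCert.ONIndex122760.data.checkPoint level0) 78000 2000 = true := by decide +kernel

end Cfsg.Agent.CosetCert.ONOrder
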