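import Cfsg.Agent.CosetCert.ONOrder.Level0Def

/-! Generated: orbit checks. -/

set_option Elab.async false
set_option maxRecDepth 100000

namespace Cfsg.Agent.CosetCert.ONOrder

theorem pts0At80000 : allFrom (Cfsg.Agent.CosetCert.ONIndex122760.data.checkPoint level0) 80000 2000 = true := by decide +kernel

theorem pts0At82000 : allFrom (Cfsg.Agent.CosetCert.ONIndex122760.data.checkPoint level0) 82000 2000 = true := by decide +kernel

theorem pts0At84000 : allFrom (Cfsg.Agent.CosetCert.ONIndex122760.data.checkPoint level0) 84000 2000 = true := by decide +kernel

theorem pts0At86000 : allFrom (Cfsg.Agent.CosetCert.ONIndex122760.data.checkPoint level0) 86000 2000 = true := by decide +kernel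

theorem pts0At88000 : allFrom (Cfsg.Agent.CosetCert.ONIndex122760.data.checkPoint level0) 88000 2000 = true := by decide +kernel

theorem pts0At90000 : allFrom (Cfsg.Agent.CosetCert.ONIndex122760.data.checkPoint level0) 90000 2000 = true := by decide +kernel

theorem pts0At92000 : allFrom (Cfsg.Agent.CosetCert.ONIndex122760.data.checkPoint level0) 92000 2000 = true := by decide +kernel

theorem pts0At94000 : allFrom (Cfsg.Agent.CosetCert.ONIndex122760.data.checkPoint level0) 94000 2000 = true := by decide +kernel

theorem pts0At96000 : allFrom (Cfsg.Agent.CosetCert.ONIndex122760.data.checkPoint level0) 96000 2000 = true := by decide +kernel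

theorem pts0At98000 : allFrom (Cfsg.Agent.CosetCert.ONIndex122760.data.checkPoint level0) 98000 2000 = true := by decide +kernel

theorem pts0At100000 : allFrom (Cfsg.Agent.CosetCert.ONIndex122760.data.checkPoint level0) 100000 2000 = true := by decide +kernel

theorem pts0At102000 : allFrom (Cfsg.Agent.CosetCert.ONIndex122760.data.checkPoint level0) 102000 2000 = true := by decide +kernel

theorem pts0At104000 : allFrom (Cfsg.Agent.CosetCert.ONIndex122760.data.checkPoint level0) 104000 2000 = true := by decide +kernel

theorem pts0At106000 : allFrom (Cfsg.Agent.CosetCert.ONIndex122760.data.checkPoint level0) 106000 2000 = true := by decide +kernel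

theorem pts0At108000 : allFrom (Cfsg.Agent.CosetCert.ONIndex122760.data.checkPoint level0) 108000 2000 = true := by decide +kernel

theorem pts0At110000 : allFrom (Cfsg.Agent.CosetCert.ONIndex122760.data.checkPoint level0) 110000 2000 = true := by decide +kernel

theorem pts0At112000 : allFrom (Cfsg.Agent.CosetCert.ONIndex122760.data.checkPoint level0) 112000 2000 = true := by decide +kernel

theorem pts0At114000 : allFrom (Cfsg.Agent.CosetCert.ONIndex122760.data.checkPoint level0) 114000 2000 = true := by decide +kernel

theorem pts0At116000 : allFrom (Cfsg.Agent.CosetCert.ONIndex122760.data.checkPoint level0) 116000 2000 = true := by decide +kernel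

theorem pts0At118000 : allFrom (Cfsg.Agent.CosetCert.ONIndex122760.data.checkPoint level0) 118000 2000 = true := by decide +kernel

end Cfsg.Agent.CosetCert.ONOrder
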