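import Cfsg.Agent.CosetCert.ONOrder.Level0Def

/-! Generated: orbit checks. -/

set_option Elab.async false
set_option maxRecDepth 100000

namespace Cfsg.Agent.CosetCert.ONOrder

theorem pts0At120000 : allFrom (Cfsg.Agent.CosetCert.ONIndex122760.data.checkPoint level0) 120000 2000 = true := by decide +kernel

theorem pts0At122000 : allFrom (Cfsg.Agent.CosetCert.ONIndex122760.data.checkPoint level0) 122000 760 = true := by decide +kernel

end Cfsg.Agent.CosetCert.ONOrder
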