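import Cfsg.Agent.CosetCert.ONOrder.Level0Part0
import Cfsg.Agent.CosetCert.ONOrder.Level0Part20
import Cfsg.Agent.CosetCert.ONOrder.Level0Part40
import Cfsg.Agent.CosetCert.ONOrder.Level0Part60

/-! Generated: orbit checks combined. -/

set_option maxRecDepth 100000

namespace Cfsg.Agent.CosetCert.ONOrder

theorem pts0_ok : ∀ j, j < 122760 → (Cfsg.Agent.CosetCert.ONIndex122760.data.checkPoint level0) j = true := by
  have h0 : ∀ j, j < 0 → (Cfsg.Agent.CosetCert.ONIndex122760.data.checkPoint level0) j = true := forall_lt_zero
  have h1 := forall_lt_step (b := 2000) h0 pts0At0 rfl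
  have h2 := forall_lt_step (b := 4000) h1 pts0At2000 rfl
  have h3 := forall_lt_step (b := 6000) h2 pts0At4000 rfl
  have h4 := forall_lt_step (b := 8000) h3 pts0At6000 rfl
  have h5 := forall_lt_step (b := 10000) h4 pts0At8000 rfl
  have h6 := forall_lt_step (b := 12000) h5 pts0At10000 rfl
  have h7 := forall_lt_step (b := 14000) h6 pts0At12000 rfl
  have h8 := forall_lt_step (b := 16000) h7 pts0At14000 rfl
  have h9 := forall_lt_step (b := 18000) h8 pts0At16000 rfl
  have h10 := forall_lt_step (b := 20000) h9 pts0At18000 rfl
  have h11 := forall_lt_step (b := 22000) h10 pts0At20000 rfl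
  have h12 := forall_lt_step (b := 24000) h11 pts0At22000 rfl
  have h13 := forall_lt_step (b := 26000) h12 pts0At24000 rfl
  have h14 := forall_lt_step (b := 28000) h13 pts0At26000 rfl
  have h15 := forall_lt_step (b := 30000) h14 pts0At28000 rfl
  have h16 := forall_lt_step (b := 32000) h15 pts0At30000 rfl
  have h17 := forall_lt_step (b := 34000) h16 pts0At32000 rfl
  have h18 := forall_lt_step (b := 36000) h17 pts0At34000 rfl
  have h19 := forall_lt_step (b := 38000) h18 pts0At36000 rfl
  have h20 := forall_lt_step (b := 40000) h19 pts0At38000 rfl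
  have h21 := forall_lt_step (b := 42000) h20 pts0At40000 rfl
  have h22 := forall_lt_step (b := 44000) h21 pts0At42000 rfl
  have h23 := forall_lt_step (b := 46000) h22 pts0At44000 rfl
  have h24 := forall_lt_step (b := 48000) h23 pts0At46000 rfl
  have h25 := forall_lt_step (b := 50000) h24 pts0At48000 rfl
  have h26 := forall_lt_step (b := 52000) h25 pts0At50000 rfl
  have h27 := forall_lt_step (b := 54000) h26 pts0At52000 rfl
  have h28 := forall_lt_step (b := 56000) h27 pts0At54000 rfl
  have h29 := forall_lt_step (b := 58000) h28 pts0At56000 rfl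
  have h30 := forall_lt_step (b := 60000) h29 pts0At58000 rfl
  have h31 := forall_lt_step (b := 62000) h30 pts0At60000 rfl
  have h32 := forall_lt_step (b := 64000) h31 pts0At62000 rfl
  have h33 := forall_lt_step (b := 66000) h32 pts0At64000 rfl
  have h34 := forall_lt_step (b := 68000) h33 pts0At66000 rfl
  have h35 := forall_lt_step (b := 70000) h34 pts0At68000 rfl
  have h36 := forall_lt_step (b := 72000) h35 pts0At70000 rfl
  have h37 := forall_lt_step (b := 74000) h36 pts0At72000 rfl
  have h38 := forall_lt_step (b := 76000) h37 pts0At74000 rfl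
  have h39 := forall_lt_step (b := 78000) h38 pts0At76000 rfl
  have h40 := forall_lt_step (b := 80000) h39 pts0At78000 rfl
  have h41 := forall_lt_step (b := 82000) h40 pts0At80000 rfl
  have h42 := forall_lt_step (b := 84000) h41 pts0At82000 rfl
  have h43 := forall_lt_step (b := 86000) h42 pts0At84000 rfl
  have h44 := forall_lt_step (b := 88000) h43 pts0At86000 rfl
  have h45 := forall_lt_step (b := 90000) h44 pts0At88000 rfl
  have h46 := forall_lt_step (b := 92000) h45 pts0At90000 rfl
  have h47 := forall_lt_step (b := 94000) h46 pts0At92000 rfl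
  have h48 := forall_lt_step (b := 96000) h47 pts0At94000 rfl
  have h49 := forall_lt_step (b := 98000) h48 pts0At96000 rfl
  have h50 := forall_lt_step (b := 100000) h49 pts0At98000 rfl
  have h51 := forall_lt_step (b := 102000) h50 pts0At100000 rfl
  have h52 := forall_lt_step (b := 104000) h51 pts0At102000 rfl
  have h53 := forall_lt_step (b := 106000) h52 pts0At104000 rfl
  have h54 := forall_lt_step (b := 108000) h53 pts0At106000 rfl
  have h55 := forall_lt_step (b := 110000) h54 pts0At108000 rfl
  have h56 := forall_lt_step (b := 112000) h55 pts0At110000 rfl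
  have h57 := forall_lt_step (b := 114000) h56 pts0At112000 rfl
  have h58 := forall_lt_step (b := 116000) h57 pts0At114000 rfl
  have h59 := forall_lt_step (b := 118000) h58 pts0At116000 rfl
  have h60 := forall_lt_step (b := 120000) h59 pts0At118000 rfl
  have h61 := forall_lt_step (b := 122000) h60 pts0At120000 rfl
  have h62 := forall_lt_step (b := 122760) h61 pts0At122000 rfl
  exact h62

end Cfsg.Agent.CosetCert.ONOrder
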