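import Cfsg.Agent.CosetCert.ONOrder.Level1Def

/-! Generated: orbit checks. -/

set_option Elab.async false
set_option maxRecDepth 100000

namespace Cfsg.Agent.CosetCert.ONOrder

theorem pts1At40000 : allFrom (Cfsg.Agent.CosetCert.ONIndex122760.data.checkPoint level1) 40000 2000 = true := by decide +kernel

theorem pts1At42000 : allFrom (Cfsg.Agent.CosetCert.ONIndex122760.data.checkPoint level1) 42000 2000 = true := by decide +kernel

theorem pts1At44000 : allFrom (Cfsg.Agent.CosetCert.ONIndex122760.data.checkPoint level1) 44000 2000 = true := by decide +kernel

theorem pts1At46000 : allFrom (Cfsg.Agent.CosetCert.ONIndex122760.data.checkPoint level1) 46000 2000 = true := by decide +kernel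

theorem pts1At48000 : allFrom (Cfsg.Agent.CosetCert.ONIndex122760.data.checkPoint level1) 48000 2000 = true := by decide +kernel

theorem pts1At50000 : allFrom (Cfsg.Agent.CosetCert.ONIndex122760.data.checkPoint level1) 50000 2000 = true := by decide +kernel

theorem pts1At52000 : allFrom (Cfsg.Agent.CosetCert.ONIndex122760.data.checkPoint level1) 52000 2000 = true := by decide +kernel

theorem pts1At54000 : allFrom (Cfsg.Agent.CosetCert.ONIndex122760.data.checkPoint level1) 54000 2000 = true := by decide +kernel

theorem pts1At56000 : allFrom (Cfsg.Agent.CosetCert.ONIndex122760.data.checkPoint level1) 56000 2000 = true := by decide +kernel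

theorem pts1At58000 : allFrom (Cfsg.Agent.CosetCert.ONIndex122760.data.checkPoint level1) 58000 653 = true := by decide +kernel

end Cfsg.Agent.CosetCert.ONOrder
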