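import Cfsg.Agent.CosetCert.ONOrder.Level1Part0
import Cfsg.Agent.CosetCert.ONOrder.Level1Part20

/-! Generated: orbit checks combined. -/

set_option maxRecDepth 100000

namespace Cfsg.Agent.CosetCert.ONOrder

theorem pts1_ok : ∀ j, j < 58653 → (Cfsg.Agent.CosetCert.ONIndex122760.data.checkPoint level1) j = true := by
  have h0 : ∀ j, j < 0 → (Cfsg.Agent.CosetCert.ONIndex122760.data.checkPoint level1) j = true := forall_lt_zero
  have h1 := forall_lt_step (b := 2000) h0 pts1At0 rfl
  have h2 := forall_lt_step (b := 4000) h1 pts1At2000 rfl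
  have h3 := forall_lt_step (b := 6000) h2 pts1At4000 rfl
  have h4 := forall_lt_step (b := 8000) h3 pts1At6000 rfl
  have h5 := forall_lt_step (b := 10000) h4 pts1At8000 rfl
  have h6 := forall_lt_step (b := 12000) h5 pts1At10000 rfl
  have h7 := forall_lt_step (b := 14000) h6 pts1At12000 rfl
  have h8 := forall_lt_step (b := 16000) h7 pts1At14000 rfl
  have h9 := forall_lt_step (b := 18000) h8 pts1At16000 rfl
  have h10 := forall_lt_step (b := 20000) h9 pts1At18000 rfl
  have h11 := forall_lt_step (b := 22000) h10 pts1At20000 rfl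
  have h12 := forall_lt_step (b := 24000) h11 pts1At22000 rfl
  have h13 := forall_lt_step (b := 26000) h12 pts1At24000 rfl
  have h14 := forall_lt_step (b := 28000) h13 pts1At26000 rfl
  have h15 := forall_lt_step (b := 30000) h14 pts1At28000 rfl
  have h16 := forall_lt_step (b := 32000) h15 pts1At30000 rfl
  have h17 := forall_lt_step (b := 34000) h16 pts1At32000 rfl
  have h18 := forall_lt_step (b := 36000) h17 pts1At34000 rfl
  have h19 := forall_lt_step (b := 38000) h18 pts1At36000 rfl
  have h20 := forall_lt_step (b := 40000) h19 pts1At38000 rfl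
  have h21 := forall_lt_step (b := 42000) h20 pts1At40000 rfl
  have h22 := forall_lt_step (b := 44000) h21 pts1At42000 rfl
  have h23 := forall_lt_step (b := 46000) h22 pts1At44000 rfl
  have h24 := forall_lt_step (b := 48000) h23 pts1At46000 rfl
  have h25 := forall_lt_step (b := 50000) h24 pts1At48000 rfl
  have h26 := forall_lt_step (b := 52000) h25 pts1At50000 rfl
  have h27 := forall_lt_step (b := 54000) h26 pts1At52000 rfl
  have h28 := forall_lt_step (b := 56000) h27 pts1At54000 rfl
  have h29 := forall_lt_step (b := 58000) h28 pts1At56000 rfl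
  have h30 := forall_lt_step (b := 58653) h29 pts1At58000 rfl
  exact h30

end Cfsg.Agent.CosetCert.ONOrder
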