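import Cfsg.Agent.CosetCert.ONIndex122760.Defs
import Cfsg.Agent.CosetCert.Lower
import Cfsg.Agent.CosetCert.ONOrder.Pts1
import Cfsg.Agent.CosetCert.ONOrder.Pos1

/-! Generated: one base point with its orbit. -/

set_option Elab.async false
set_option maxRecDepth 100000

namespace Cfsg.Agent.CosetCert.ONOrder

noncomputable def level1 : Data.Level where
  gens := [
    [1],
    [2],
    [3],
    [4],
    [5],
    [6]]
  base := 1
  size := 58653
  pts := fun j => force (get48 ptsStore1 j) fun e =>
    Nat.add (Nat.mul (Nat.div e 268435456) 1099511627776) (Nat.mod e 268435456)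
  pos := get48 posStore1

theorem gens1_ok : Cfsg.Agent.CosetCert.ONIndex122760.data.checkGens [0] level1 = true := by decide +kernel

end Cfsg.Agent.CosetCert.ONOrder
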