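import Cfsg.Agent.CosetCert.ONOrder.Level1Def

/-! Generated: orbit checks. -/

set_option Elab.async false
set_option maxRecDepth 100000

namespace Cfsg.Agent.CosetCert.ONOrder

theorem pts1At0 : allFrom (Cfsg.Agent.CosetCert.ONIndex122760.data.checkPoint level1) 0 2000 = true := by decide +kernel

theorem pts1At2000 : allFrom (Cfsg.Agent.CosetCert.ONIndex122760.data.checkPoint level1) 2000 2000 = true := by decide +kernel

theorem pts1At4000 : allFrom (Cfsg.Agent.CosetCert.ONIndex122760.data.checkPoint level1) 4000 2000 = true := by decide +kernel

theorem pts1At6000 : allFrom (Cfsg.Agent.CosetCert.ONIndex122760.data.checkPoint level1) 6000 2000 = true := by decide +kernel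

theorem pts1At8000 : allFrom (Cfsg.Agent.CosetCert.ONIndex122760.data.checkPoint level1) 8000 2000 = true := by decide +kernel

theorem pts1At10000 : allFrom (Cfsg.Agent.CosetCert.ONIndex122760.data.checkPoint level1) 10000 2000 = true := by decide +kernel

theorem pts1At12000 : allFrom (Cfsg.Agent.CosetCert.ONIndex122760.data.checkPoint level1) 12000 2000 = true := by decide +kernel

theorem pts1At14000 : allFrom (Cfsg.Agent.CosetCert.ONIndex122760.data.checkPoint level1) 14000 2000 = true := by decide +kernel

theorem pts1At16000 : allFrom (Cfsg.Agent.CosetCert.ONIndex122760.data.checkPoint level1) 16000 2000 = true := by decide +kernel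

theorem pts1At18000 : allFrom (Cfsg.Agent.CosetCert.ONIndex122760.data.checkPoint level1) 18000 2000 = true := by decide +kernel

theorem pts1At20000 : allFrom (Cfsg.Agent.CosetCert.ONIndex122760.data.checkPoint level1) 20000 2000 = true := by decide +kernel

theorem pts1At22000 : allFrom (Cfsg.Agent.CosetCert.ONIndex122760.data.checkPoint level1) 22000 2000 = true := by decide +kernel

theorem pts1At24000 : allFrom (Cfsg.Agent.CosetCert.ONIndex122760.data.checkPoint level1) 24000 2000 = true := by decide +kernel

theorem pts1At26000 : allFrom (Cfsg.Agent.CosetCert.ONIndex122760.data.checkPoint level1) 26000 2000 = true := by decide +kernel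

theorem pts1At28000 : allFrom (Cfsg.Agent.CosetCert.ONIndex122760.data.checkPoint level1) 28000 2000 = true := by decide +kernel

theorem pts1At30000 : allFrom (Cfsg.Agent.CosetCert.ONIndex122760.data.checkPoint level1) 30000 2000 = true := by decide +kernel

theorem pts1At32000 : allFrom (Cfsg.Agent.CosetCert.ONIndex122760.data.checkPoint level1) 32000 2000 = true := by decide +kernel

theorem pts1At34000 : allFrom (Cfsg.Agent.CosetCert.ONIndex122760.data.checkPoint level1) 34000 2000 = true := by decide +kernel

theorem pts1At36000 : allFrom (Cfsg.Agent.CosetCert.ONIndex122760.data.checkPoint level1) 36000 2000 = true := by decide +kernel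

theorem pts1At38000 : allFrom (Cfsg.Agent.CosetCert.ONIndex122760.data.checkPoint level1) 38000 2000 = true := by decide +kernel

end Cfsg.Agent.CosetCert.ONOrder
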