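import Cfsg.Agent.CosetCert.Pack

/-! Generated: orbit points. -/

set_option Elab.async false

namespace Cfsg.Agent.CosetCert.ONOrder

def ptsStore2 : Store := (.leaf 0x1d2ac0000e02175c40000d070e3c60000c061dba20000c021d8bd0000b071d2a80000b001afba0000a0b1dc850000a09144270000a0809ddb000090915e1500009071dc8400009031d2a900008091ba18000070b11c90000070709ddc0000705175c00000704172d600007031c4d6000060b1a43c00006041a9d9000050918dff00005021afd300005011c2f100005001d09d000040b1ba17000040a1be73000040817eb9000040517ebc000040405df0000040209dd7000040016d5a00003091ad56000030717baf00003041c3bc000020a18b3d000020912f3000002071840400002061afd400002051d2aa0000203175bb00002020e5b300002001d2ad000010b1847000001091afbb000010717d23000010517b8900001041c3be00001031879900001021d09600001011b4570000100175c1000000b1c3bd000000a1559b000000919eb2000000817eba00000071d29100000061afd600000050edc3000000417ba7000000309dd8000000217d27000000104fd500000001a3780000000)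

end Cfsg.Agent.CosetCert.ONOrder
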