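import Cfsg.Agent.CosetCert.ONIndex122760.Defs
import Cfsg.Agent.CosetCert.Lower
import Cfsg.Agent.CosetCert.ONOrder.Pts2
import Cfsg.Agent.CosetCert.ONOrder.Pos2

/-! Generated: one base point with its orbit. -/

set_option Elab.async false
set_option maxRecDepth 100000

namespace Cfsg.Agent.CosetCert.ONOrder

noncomputable def level2 : Data.Level where
  gens := [
    [3, 5, 4, 3, 2, 4, 3, 4, 3, 5, 4, 3, 2, 1, 4, 3, 2, 4, 3, 5, 4, 6, 5, 2, 4, 1, 2, 3, 4, 2, 3, 4, 5, 6, 2, 3, 4, 5, 3, 4, 2, 3, 4, 5, 4, 3, 2],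
    [3, 2, 4, 5, 4, 3, 2, 1, 4, 3, 5, 4, 3, 2, 5, 2, 3, 4, 5, 3, 4, 2, 3, 4, 2, 3, 4, 5, 4],
    [2, 1, 3, 4, 5, 4, 3, 2, 4, 3, 4, 3, 5, 4, 3, 2, 1, 4, 3, 5, 4, 3, 2, 6, 4, 1, 2, 3, 4, 5, 2, 3, 4, 2, 3, 4, 5, 4, 3, 4, 2, 3, 4, 5, 4, 2],
    [2, 1, 3, 2, 1, 4, 3, 4, 5, 4, 3, 2, 4, 3, 5, 6, 1, 2, 3, 4, 5, 3, 4, 2, 3, 4, 5, 6, 2, 3, 4, 5],
    [2, 3, 4, 5, 4, 3, 2, 4, 3, 2, 4, 3, 2, 5, 4, 3, 2, 4, 1, 6, 2, 3, 4, 5, 3, 4, 2, 3, 4, 5, 2, 3, 4, 3, 4, 2],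
    [2, 4, 3, 2, 4, 3, 2, 5, 4, 3, 2, 4, 3, 5, 4, 3, 2, 1, 4, 3, 4, 5, 4, 5, 3, 4, 1, 2, 3, 4, 5, 6, 1, 2, 3, 4, 5, 3, 4, 2, 3, 1, 2],
    [3, 4, 5, 4, 3, 2, 1, 4, 3, 2, 5, 4, 3, 4, 3, 5, 4, 3, 2, 1, 4, 5, 2, 4, 1, 2, 3, 4, 5, 6, 4, 3, 4, 5, 4, 2, 3, 4, 1, 2, 3, 4, 5, 4],
    [2, 3, 4, 3, 5, 4, 3, 2, 4, 3, 4, 3, 2, 1, 5, 4, 3, 2, 4, 3, 4, 3, 5, 6, 5, 4, 1, 2, 3, 4, 5, 4, 3, 4, 2, 3, 4, 5, 4, 1, 2, 3, 4, 2, 3, 2],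
    [2, 1, 5, 4, 3, 2, 4, 3, 4, 3, 5, 4, 3, 2, 4, 5, 6, 4, 6, 5, 4, 2, 3, 4, 5, 6, 3, 4, 1, 2, 3, 4, 5, 1, 2],
    [2, 4, 3, 4, 5, 4, 3, 4, 3, 2, 1, 5, 4, 3, 2, 1, 4, 5, 6, 5, 4, 1, 2, 3, 4, 5, 4, 3, 4, 2, 3, 4, 5, 3, 4, 3, 2],
    [2, 3, 4, 5, 4, 3, 4, 3, 2, 5, 4, 3, 2, 4, 3, 2, 5, 4, 3, 4, 5, 6, 3, 6, 2, 3, 4, 5, 1, 2, 3, 4, 2, 3, 4, 5, 2, 3, 4, 1, 2, 3, 4, 5, 1, 2],
    [2, 4, 5, 4, 3, 2, 4, 3, 4, 5, 4, 3, 2, 4, 3, 5, 4, 3, 2, 6, 5, 4, 3, 4, 2, 5, 3, 4, 2, 3, 4, 5, 3, 4, 2, 3, 4, 5, 1, 2, 3, 4, 1, 2, 3, 4, 5, 1, 2]]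
  base := 107384
  size := 64
  pts := fun j => force (get48 ptsStore2 j) fun e =>
    Nat.add (Nat.mul (Nat.div e 268435456) 1099511627776) (Nat.mod e 268435456)
  pos := get48 posStore2

theorem gens2_ok : Cfsg.Agent.CosetCert.ONIndex122760.data.checkGens [0, 1] level2 = true := by decide +kernel

theorem pts2At0 : allFrom (Cfsg.Agent.CosetCert.ONIndex122760.data.checkPoint level2) 0 64 = true := by decide +kernel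

theorem pts2_ok : ∀ j, j < 64 → (Cfsg.Agent.CosetCert.ONIndex122760.data.checkPoint level2) j = true := by
  have h0 : ∀ j, j < 0 → (Cfsg.Agent.CosetCert.ONIndex122760.data.checkPoint level2) j = true := forall_lt_zero
  have h1 := forall_lt_step (b := 64) h0 pts2At0 rfl
  exact h1

end Cfsg.Agent.CosetCert.ONOrder
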