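import Cfsg.Agent.CosetCert.ONOrder.Level0
import Cfsg.Agent.CosetCert.ONOrder.Close
import Cfsg.Agent.CosetCert.ONOrder.Level1
import Cfsg.Agent.CosetCert.ONOrder.Level2
import Cfsg.Agent.CosetCert.ONChain1.Main
import Cfsg.Agent.CosetCert.ONChain2.Main
import Cfsg.Agent.CosetCert.ONCollapse.Main
import Cfsg.Agent.CosetCert.ONIndex122760.Main
import Cfsg.Agent.CosetCert.Simple
import Cfsg.Agent.CosetCert.SubOrb

/-! Order and simplicity of the presented O'Nan group. -/

set_option maxRecDepth 100000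

namespace Cfsg.Agent.CosetCert.ONOrder

open Cfsg.Spor in
/-- The relators. -/
abbrev rels : Set (FreeGroup Cfsg.Spor.ON.Gen) := coxRelators ON.edges ∪ {r | r ∈ ON.extra}

theorem rels_ok : ∀ l ∈ coxWords Cfsg.Agent.CosetCert.ONIndex122760.genList Cfsg.Spor.ON.edges Cfsg.Spor.ON.extra,
    PresentedGroup.mk rels (FreeGroup.mk l) = 1 :=
  Cfsg.Agent.CosetCert.ONIndex122760.spells.rels_one

section

open Cfsg.Spor

theorem node_rel (x y : ON.Gen) (hx : x ∈ coxNodes ON.edges) (hy : y ∈ coxNodes ON.edges) :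
    (PresentedGroup.of x * PresentedGroup.of y : PresentedGroup rels) ^ coxLabel ON.edges x y = 1 := by
  have h := PresentedGroup.one_of_mem (rels := rels)
    (x := (FreeGroup.of x * FreeGroup.of y) ^ coxLabel ON.edges x y) (Or.inl ⟨x, hx, y, hy, rfl⟩)
  simpa [map_mul, map_pow, PresentedGroup.of] using h

theorem node_sq (x : ON.Gen) (hx : x ∈ coxNodes ON.edges) :
    (PresentedGroup.of x : PresentedGroup rels) * PresentedGroup.of x = 1 := by
  simpa [coxLabel] using node_rel x x hx hx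

theorem f_eq : (PresentedGroup.of ON.Gen.f : PresentedGroup rels) =
    PresentedGroup.of ON.Gen.a * (PresentedGroup.of ON.Gen.c * PresentedGroup.of ON.Gen.d) ^ 4 := by
  have h := PresentedGroup.one_of_mem (rels := rels)
    (x := (ON.a * ON.f) * (((ON.c * ON.d) ^ 4)⁻¹)) (Or.inr (by simp [ON.extra]))
  have h' : PresentedGroup.of ON.Gen.a * PresentedGroup.of ON.Gen.f =
      ((PresentedGroup.of ON.Gen.c * PresentedGroup.of ON.Gen.d) ^ 4 : PresentedGroup rels) := by
    rw [← mul_inv_eq_one]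
    simpa [map_mul, map_pow, map_inv, PresentedGroup.of] using h
  rw [← h', ← mul_assoc, node_sq ON.Gen.a (by decide), one_mul]

theorem derived_bf : (PresentedGroup.of ON.Gen.b * (PresentedGroup.of ON.Gen.a *
    (PresentedGroup.of ON.Gen.c * PresentedGroup.of ON.Gen.d) ^ 4) : PresentedGroup rels) ^ 2 = 1 := by
  rw [← f_eq]
  exact node_rel ON.Gen.b ON.Gen.f (by decide) (by decide)

theorem derived_ff : (PresentedGroup.of ON.Gen.a *
    (PresentedGroup.of ON.Gen.c * PresentedGroup.of ON.Gen.d) ^ 4 : PresentedGroup rels) ^ 2 = 1 := by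
  rw [← f_eq, sq]
  exact node_sq ON.Gen.f (by decide)

theorem derived_af : PresentedGroup.of ON.Gen.a * PresentedGroup.of ON.Gen.f *
    (PresentedGroup.of ON.Gen.d * PresentedGroup.of ON.Gen.c : PresentedGroup rels) ^ 4 = 1 := by
  have h : (PresentedGroup.of ON.Gen.d * PresentedGroup.of ON.Gen.c : PresentedGroup rels) =
      (PresentedGroup.of ON.Gen.c * PresentedGroup.of ON.Gen.d)⁻¹ := by
    rw [mul_inv_rev, inv_eq_of_mul_eq_one_right (node_sq ON.Gen.d (by decide)),
      inv_eq_of_mul_eq_one_right (node_sq ON.Gen.c (by decide))]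
  rw [h, inv_pow, f_eq, ← mul_assoc (PresentedGroup.of ON.Gen.a), node_sq ON.Gen.a (by decide),
    one_mul, mul_inv_cancel]

/-- The words of the two steps that follow from the relators without being among them. -/
def derivedWords : List (List (ON.Gen × Bool)) :=
  [((List.replicate 2 ([.b, .a, .c, .d, .c, .d, .c, .d, .c, .d] : List ON.Gen)).flatten).map fun x => (x, true),
   ((List.replicate 2 ([.a, .c, .d, .c, .d, .c, .d, .c, .d] : List ON.Gen)).flatten).map fun x => (x, true),
   ([.a, .f, .d, .c, .d, .c, .d, .c, .d, .c] : List ON.Gen).map fun x => (x, true)]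

theorem derived_mk : derivedWords.map FreeGroup.mk =
    [(ON.b * (ON.a * (ON.c * ON.d) ^ 4)) ^ 2, (ON.a * (ON.c * ON.d) ^ 4) ^ 2,
      ON.a * ON.f * (ON.d * ON.c) ^ 4] := by decide +kernel

theorem derived_ok : ∀ l ∈ derivedWords, PresentedGroup.mk rels (FreeGroup.mk l) = 1 := by
  intro l hl
  have h : FreeGroup.mk l ∈ derivedWords.map FreeGroup.mk := List.mem_map_of_mem hl
  rw [derived_mk] at h
  simp only [List.mem_cons, List.not_mem_nil, or_false] at h
  rcases h with h | h | h <;> rw [h] <;> simp only [map_pow, map_mul]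
  · exact derived_bf
  · exact derived_ff
  · exact derived_af

end

theorem stab_bound : Finite (letterSub rels [Cfsg.Spor.ON.Gen.a, Cfsg.Spor.ON.Gen.b, Cfsg.Spor.ON.Gen.c, Cfsg.Spor.ON.Gen.d, Cfsg.Spor.ON.Gen.e, Cfsg.Spor.ON.Gen.f]) ∧
    Nat.card (letterSub rels [Cfsg.Spor.ON.Gen.a, Cfsg.Spor.ON.Gen.b, Cfsg.Spor.ON.Gen.c, Cfsg.Spor.ON.Gen.d, Cfsg.Spor.ON.Gen.e, Cfsg.Spor.ON.Gen.f]) ≤ 3753792 := by
  have h3 := letterSub_nil_card rels
  have h2 := letterSub_card_le Cfsg.Agent.CosetCert.ONChain2.ren (List.finRange 4) Cfsg.Agent.CosetCert.ONChain2.subLetters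
    [] rfl List.mem_finRange
    (fun l hl => by
      have h : (Cfsg.Agent.CosetCert.ONChain2.relWords.all fun l => decide (l.map (fun a => (Cfsg.Agent.CosetCert.ONChain2.ren a.1, a.2)) ∈
          coxWords Cfsg.Agent.CosetCert.ONIndex122760.genList Cfsg.Spor.ON.edges Cfsg.Spor.ON.extra ++ derivedWords)) = true := by decide +kernel
      rcases List.mem_append.1 (of_decide_eq_true (List.all_eq_true.1 h l hl)) with h | h
      · exact rels_ok _ h
      · exact derived_ok _ h)
    Cfsg.Agent.CosetCert.ONChain2.index_bound h3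
  have h1 := letterSub_card_le Cfsg.Agent.CosetCert.ONChain1.ren (List.finRange 6) Cfsg.Agent.CosetCert.ONChain1.subLetters
    [Cfsg.Spor.ON.Gen.a, Cfsg.Spor.ON.Gen.b, Cfsg.Spor.ON.Gen.c, Cfsg.Spor.ON.Gen.d] rfl List.mem_finRange
    (fun l hl => by
      have h : (Cfsg.Agent.CosetCert.ONChain1.relWords.all fun l => decide (l.map (fun a => (Cfsg.Agent.CosetCert.ONChain1.ren a.1, a.2)) ∈
          coxWords Cfsg.Agent.CosetCert.ONIndex122760.genList Cfsg.Spor.ON.edges Cfsg.Spor.ON.extra ++ derivedWords)) = true := by decide +kernel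
      rcases List.mem_append.1 (of_decide_eq_true (List.all_eq_true.1 h l hl)) with h | h
      · exact rels_ok _ h
      · exact derived_ok _ h)
    Cfsg.Agent.CosetCert.ONChain1.index_bound h2
  exact ⟨h1.1, h1.2.trans (by decide +kernel)⟩

theorem card_bound : Finite Cfsg.Spor.ON ∧ Nat.card Cfsg.Spor.ON ≤ 460815505920 := by
  obtain ⟨hf, hc⟩ := card_le_top [Cfsg.Spor.ON.Gen.a, Cfsg.Spor.ON.Gen.b, Cfsg.Spor.ON.Gen.c, Cfsg.Spor.ON.Gen.d, Cfsg.Spor.ON.Gen.e, Cfsg.Spor.ON.Gen.f] (Sg := Cfsg.Agent.CosetCert.ONIndex122760.subGens) rfl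
    ⟨(Data.index_eq Cfsg.Agent.CosetCert.ONIndex122760.valid Cfsg.Agent.CosetCert.ONIndex122760.spells).trans_ne (by decide +kernel), (Data.index_eq Cfsg.Agent.CosetCert.ONIndex122760.valid Cfsg.Agent.CosetCert.ONIndex122760.spells).le⟩ stab_bound
  exact ⟨hf, hc.trans (by decide +kernel)⟩

theorem close_normal : ∀ M : Subgroup Cfsg.Spor.ON, M.Normal →
    PresentedGroup.mk rels (FreeGroup.mk Cfsg.Agent.CosetCert.ONCollapse.closeWord) ∈ M → M = ⊤ := by
  intro M hM hz
  refine Data.normal_eq_top_of_mem Cfsg.Agent.CosetCert.ONCollapse.log_valid Cfsg.Agent.CosetCert.ONCollapse.spells rfl rfl id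
    Function.surjective_id _ (fun l hl => ?_) M hM hz
  have e : (l.map fun a => (id a.1, a.2)) = l := by simp
  rw [e]
  rcases List.mem_append.1 hl with h | h
  · exact Or.inl (rels_ok _ h)
  · exact Or.inr (List.mem_singleton.1 h)

noncomputable def suborbitList : List Data.Orb :=
  [⟨Cfsg.Agent.CosetCert.ONIndex122760.orbSet0, 1, get48 Cfsg.Agent.CosetCert.ONIndex122760.orbStore0⟩, ⟨Cfsg.Agent.CosetCert.ONIndex122760.orbSet1, 6, get48 Cfsg.Agent.CosetCert.ONIndex122760.orbStore1⟩, ⟨Cfsg.Agent.CosetCert.ONIndex122760.orbSet2, 12, get48 Cfsg.Agent.CosetCert.ONIndex122760.orbStore2⟩, ⟨Cfsg.Agent.CosetCert.ONIndex122760.orbSet3, 31, get48 Cfsg.Agent.CosetCert.ONIndex122760.orbStore3⟩]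

theorem suborbits : Data.Suborbits Cfsg.Agent.CosetCert.ONIndex122760.data suborbitList where
  ok := by
    simp only [suborbitList, List.forall_mem_cons, List.not_mem_nil, false_imp_iff, implies_true,
      and_true]
    exact ⟨⟨Cfsg.Agent.CosetCert.ONIndex122760.orb0_root, Cfsg.Agent.CosetCert.ONIndex122760.orb0_ok⟩, ⟨Cfsg.Agent.CosetCert.ONIndex122760.orb1_root, Cfsg.Agent.CosetCert.ONIndex122760.orb1_ok⟩, ⟨Cfsg.Agent.CosetCert.ONIndex122760.orb2_root, Cfsg.Agent.CosetCert.ONIndex122760.orb2_ok⟩, ⟨Cfsg.Agent.CosetCert.ONIndex122760.orb3_root, Cfsg.Agent.CosetCert.ONIndex122760.orb3_ok⟩⟩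
  cover := Data.cover_of_or (n := 122760) (by decide +kernel)
  arith := Data.arith_of_sums (n := 122760) (by norm_num) (cs := [58653, 52136, 5586, 6384])
    (by decide +kernel)
    (by simp only [suborbitList, List.map_cons, List.map_nil,
      Cfsg.Agent.CosetCert.ONIndex122760.orb0_count, Cfsg.Agent.CosetCert.ONIndex122760.orb1_count,
      Cfsg.Agent.CosetCert.ONIndex122760.orb2_count, Cfsg.Agent.CosetCert.ONIndex122760.orb3_count])
    (by decide +kernel)

noncomputable def levels : List Data.Level := [level0, level1, level2]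

theorem levels_ok : Cfsg.Agent.CosetCert.ONIndex122760.data.LevelsOK [] levels :=
  ⟨⟨by decide +kernel, gens0_ok, pts0_ok⟩, ⟨by decide +kernel, gens1_ok, pts1_ok⟩, ⟨by decide +kernel, gens2_ok, pts2_ok⟩, trivial⟩

theorem order_and_simple : IsSimpleGroup Cfsg.Spor.ON ∧ Nat.card Cfsg.Spor.ON = 460815505920 :=
  Data.isSimpleGroup_of_cert Cfsg.Agent.CosetCert.ONIndex122760.valid Cfsg.Agent.CosetCert.ONIndex122760.spells (N := 460815505920) card_bound.1 card_bound.2
    levels levels_ok (by decide +kernel) suborbitList suborbits 31 1 (by norm_num)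
    (by decide +kernel) (by decide +kernel) (by decide +kernel) Cfsg.Agent.CosetCert.ONCollapse.closeWord 31
    (by decide +kernel)
    (fun c hc => by
      have e : ((List.replicate 31 Cfsg.Agent.CosetCert.ONCollapse.closeWord).flatten).map
          (Data.code Cfsg.Agent.CosetCert.ONIndex122760.data.iv Cfsg.Agent.CosetCert.ONIndex122760.enc) =
          (List.replicate 31 closeCode).flatten := by decide +kernel
      rw [e]
      exact close_pow c hc)
    close_normal

end Cfsg.Agent.CosetCert.ONOrder
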